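import Cfsg.Agent.S0144
import Cfsg.Agent.S0205
import Mathlib.GroupTheory.SpecificGroups.Alternating
import Mathlib.LinearAlgebra.Matrix.GeneralLinearGroup.Projective

/-!
# Simple groups with at most five automorphism orbits: vocabulary
-/

set_option autoImplicit false

open Subgroup

namespace CfsgLib.Recognition.FiveOrbits

variable (G : Type*) [Group G]

/-- The groups to be recognised. -/
def Concl : Prop :=
  Nonempty (G ≃* ↥(alternatingGroup (Fin 5))) ∨ Nonempty (G ≃* ↥(alternatingGroup (Fin 6))) ∨
    (∃ (F : Type) (_ : Field F) (_ : Fintype F), (Fintype.card F = 7 ∨ Fintype.card F = 8) ∧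
      Nonempty (G ≃* Matrix.ProjectiveSpecialLinearGroup (Fin 2) F))

/-- The automorphism group has at most five orbits on the elements. -/
def Few : Prop := Nat.card (MulAction.orbitRel.Quotient (MulAut G) G) ≤ 5

variable [Finite G]

/-- The set of element orders. -/
noncomputable def spec : Finset ℕ := (Set.finite_range (orderOf : G → ℕ)).toFinset

variable {G}

theorem mem_spec {k : ℕ} : k ∈ spec G ↔ ∃ x : G, orderOf x = k := by
  simp [spec, Set.mem_range]

theorem orderOf_mem_spec (x : G) : orderOf x ∈ spec G := mem_spec.2 ⟨x, rfl⟩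

theorem one_mem_spec : 1 ∈ spec G := mem_spec.2 ⟨1, orderOf_one⟩

theorem prime_mem_spec {p : ℕ} (hp : p ∈ (Nat.card G).primeFactors) : p ∈ spec G := by
  haveI : Fact p.Prime := ⟨Nat.prime_of_mem_primeFactors hp⟩
  obtain ⟨x, hx⟩ := exists_prime_orderOf_dvd_card' (G := G) p (Nat.dvd_of_mem_primeFactors hp)
  exact mem_spec.2 ⟨x, hx⟩

theorem spec_card_le (h5 : Few G) : (spec G).card ≤ 5 := by
  classical
  letI := Fintype.ofFinite G
  let φ : MulAction.orbitRel.Quotient (MulAut G) G → ℕ := fun c => Quotient.liftOn' c (fun x => orderOf x)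
    (fun x y hxy => by
      obtain ⟨f, hf⟩ := hxy
      show orderOf x = orderOf y
      rw [← hf]
      exact MulEquiv.orderOf_eq f y)
  letI := Fintype.ofFinite (MulAction.orbitRel.Quotient (MulAut G) G)
  have hsub : spec G ⊆ Finset.univ.image φ := by
    intro k hk
    obtain ⟨x, rfl⟩ := mem_spec.1 hk
    exact Finset.mem_image.2 ⟨Quotient.mk'' x, Finset.mem_univ _, rfl⟩
  refine (Finset.card_le_card hsub).trans (Finset.card_image_le.trans ?_)
  rw [Finset.card_univ, ← Nat.card_eq_fintype_card]
  exact h5

/-- When five element orders occur, each is a single orbit. -/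
theorem orbit_of_orderOf_eq (h5 : Few G) (hs : 5 ≤ (spec G).card) {x y : G}
    (h : orderOf x = orderOf y) : ∃ f : MulAut G, f x = y := by
  classical
  letI := Fintype.ofFinite G
  let φ : MulAction.orbitRel.Quotient (MulAut G) G → ℕ := fun c => Quotient.liftOn' c (fun x => orderOf x)
    (fun x y hxy => by
      obtain ⟨f, hf⟩ := hxy
      show orderOf x = orderOf y
      rw [← hf]
      exact MulEquiv.orderOf_eq f y)
  letI := Fintype.ofFinite (MulAction.orbitRel.Quotient (MulAut G) G)
  have himg : Finset.univ.image φ = spec G := by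
    ext k
    rw [Finset.mem_image, mem_spec]
    constructor
    · rintro ⟨c, -, rfl⟩
      induction c using Quotient.inductionOn'
      exact ⟨_, rfl⟩
    · rintro ⟨x, rfl⟩
      exact ⟨Quotient.mk'' x, Finset.mem_univ _, rfl⟩
  have hc : (Finset.univ : Finset (MulAction.orbitRel.Quotient (MulAut G) G)).card ≤ 5 := by
    rw [Finset.card_univ, ← Nat.card_eq_fintype_card]
    exact h5
  have hinj : Set.InjOn φ (Finset.univ : Finset (MulAction.orbitRel.Quotient (MulAut G) G)) := by
    apply Finset.card_image_iff.1
    exact le_antisymm Finset.card_image_le (by rw [himg]; omega)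
  have := hinj (Finset.mem_univ (Quotient.mk'' x)) (Finset.mem_univ (Quotient.mk'' y)) h
  obtain ⟨f, hf⟩ := Quotient.exact' this.symm
  exact ⟨f, hf⟩

theorem not_isSolvable [IsSimpleGroup G] (hG : ¬ IsMulCommutative G) : ¬ Group.IsSolvable G := by
  intro h
  exact hG ⟨⟨fun a b => IsSimpleGroup.comm_iff_isSolvable.2 h a b⟩⟩

theorem two_dvd_card [IsSimpleGroup G] (hG : ¬ IsMulCommutative G) : 2 ∣ Nat.card G := by
  by_contra h
  exact not_isSolvable hG (Cfsg.Agent.S0205.result (Nat.odd_iff.2 (Nat.two_dvd_ne_zero.1 h)))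

theorem isSolvable_of_card_primeFactors (h : (Nat.card G).primeFactors.card ≤ 2) :
    Group.IsSolvable G := by
  classical
  have hn : Nat.card G ≠ 0 := Nat.card_pos.ne'
  have he := Nat.prod_factorization_pow_eq_self hn
  rw [Finsupp.prod, Nat.support_factorization] at he
  obtain h0 | h1 | h2 : (Nat.card G).primeFactors.card = 0 ∨ (Nat.card G).primeFactors.card = 1 ∨
      (Nat.card G).primeFactors.card = 2 := by omega
  · rw [Finset.card_eq_zero.1 h0, Finset.prod_empty] at he
    exact Cfsg.Agent.S0144.result 2 2 0 0 Nat.prime_two Nat.prime_two (by simp [← he])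
  · obtain ⟨p, hp⟩ := Finset.card_eq_one.1 h1
    have hpp : p.Prime := Nat.prime_of_mem_primeFactors (n := Nat.card G) (by rw [hp]; simp)
    rw [hp, Finset.prod_singleton] at he
    exact Cfsg.Agent.S0144.result p 2 ((Nat.card G).factorization p) 0 hpp Nat.prime_two (by rw [pow_zero, mul_one]; exact he.symm)
  · obtain ⟨p, r, hpr, hp⟩ := Finset.card_eq_two.1 h2
    have hpp : p.Prime := Nat.prime_of_mem_primeFactors (n := Nat.card G) (by rw [hp]; simp)
    have hrp : r.Prime := Nat.prime_of_mem_primeFactors (n := Nat.card G) (by rw [hp]; simp)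
    rw [hp, Finset.prod_pair hpr] at he
    exact Cfsg.Agent.S0144.result p r _ _ hpp hrp he.symm

theorem three_le_primes [IsSimpleGroup G] (hG : ¬ IsMulCommutative G) :
    3 ≤ (Nat.card G).primeFactors.card := by
  by_contra h
  exact not_isSolvable hG (isSolvable_of_card_primeFactors (by omega))

/-- At most one element order is neither `1` nor prime. -/
theorem composite_unique [IsSimpleGroup G] (hG : ¬ IsMulCommutative G) (h5 : Few G) {a b : ℕ}
    (ha : a ∈ spec G) (hb : b ∈ spec G) (ha1 : a ≠ 1) (hb1 : b ≠ 1) (hap : ¬ a.Prime)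
    (hbp : ¬ b.Prime) : a = b := by
  classical
  by_contra hne
  have hsub : ({a, b, 1} ∪ (Nat.card G).primeFactors) ⊆ spec G := by
    intro k hk
    simp only [Finset.mem_union, Finset.mem_insert, Finset.mem_singleton] at hk
    rcases hk with (rfl | rfl | rfl) | hk
    · exact ha
    · exact hb
    · exact one_mem_spec
    · exact prime_mem_spec hk
  have hdisj : Disjoint ({a, b, 1} : Finset ℕ) (Nat.card G).primeFactors := by
    rw [Finset.disjoint_left]
    intro k hk hk'
    have := Nat.prime_of_mem_primeFactors hk'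
    simp only [Finset.mem_insert, Finset.mem_singleton] at hk
    rcases hk with rfl | rfl | rfl
    · exact hap this
    · exact hbp this
    · exact Nat.not_prime_one this
  have h3 : ({a, b, 1} : Finset ℕ).card = 3 :=
    Finset.card_eq_three.2 ⟨a, b, 1, hne, ha1, hb1, rfl⟩
  have := (Finset.card_le_card hsub).trans (spec_card_le h5)
  rw [Finset.card_union_of_disjoint hdisj, h3] at this
  have := three_le_primes (G := G) hG
  omega

end CfsgLib.Recognition.FiveOrbits
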