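import Cfsg.Agent.Lib.Recognition.FiveOrbits.Basic
import Cfsg.Agent.Lib.Recognition.PrimePowerSimple.Arith
import Cfsg.Agent.Lib.LocalEven.Spectrum
import Cfsg.Agent.Lib.Perm.ZGroup.Simple
import Cfsg.Agent.S0494
import Cfsg.Agent.S1230

/-!
# At most five automorphism orbits: elementary involution centralisers
-/

set_option autoImplicit false
set_option linter.style.haveILetI false

open Subgroup

namespace CfsgLib.Recognition.FiveOrbits

open CfsgLib.Recognition.PrimePowerSimple (eq_pow_of_dvd two_pow_add_one two_pow_sub_one)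

variable {G : Type*} [Group G] [Finite G]

/-- `2 ^ n - 1` and `2 ^ n + 1` cannot both be element orders when `4 ≤ n`. -/
theorem no_two_tori [IsSimpleGroup G] (hG : ¬ IsMulCommutative G) (h5 : Few G) {n : ℕ} (hn : 4 ≤ n)
    (ha : 2 ^ n - 1 ∈ spec G) (hb : 2 ^ n + 1 ∈ spec G) : False := by
  classical
  have h16 : 16 ≤ 2 ^ n := le_trans (by norm_num) (Nat.pow_le_pow_right (show 0 < 2 by norm_num) hn)
  have heven : 2 ∣ 2 ^ n := dvd_pow_self 2 (by omega)
  -- the member divisible by three is composite, the other is prime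
  obtain ⟨c, r, hc, hr, hc3, hcr, hco, hlt, hr16, hcodd⟩ : ∃ c r : ℕ, c ∈ spec G ∧ r ∈ spec G ∧ 3 ∣ c ∧ c ≠ r ∧
      (c + 2 = r ∨ r + 2 = c) ∧ (c = 2 ^ n - 1 ∨ c = 2 ^ n + 1) ∧ 15 ≤ r ∧ ¬ 2 ∣ c := by
    have h3 : ¬ 3 ∣ 2 ^ n := fun h => absurd (Nat.prime_three.dvd_of_dvd_pow h) (by norm_num)
    have h13 : 3 ∣ 2 ^ n - 1 ∨ 3 ∣ 2 ^ n + 1 := by
      obtain ⟨k, hk⟩ : ∃ k, 2 ^ n = k := ⟨_, rfl⟩
      rw [hk] at h3 ⊢
      rcases (show k % 3 = 0 ∨ k % 3 = 1 ∨ k % 3 = 2 by omega) with h | h | h
      · exact absurd (Nat.dvd_of_mod_eq_zero h) h3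
      · exact Or.inl (Nat.dvd_of_mod_eq_zero (by omega))
      · exact Or.inr (Nat.dvd_of_mod_eq_zero (by omega))
    rcases h13 with h | h
    · exact ⟨_, _, ha, hb, h, by omega, Or.inl (by omega), Or.inl rfl, by omega, by omega⟩
    · exact ⟨_, _, hb, ha, h, by omega, Or.inr (by omega), Or.inr rfl, by omega, by omega⟩
  have hcp : ¬ c.Prime := fun h => by
    have := (Nat.prime_dvd_prime_iff_eq Nat.prime_three h).1 hc3
    omega
  have hrp : r.Prime := by
    by_contra h
    exact hcr (composite_unique hG h5 hc hr (by omega) (by omega) hcp h)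
  haveI : Fact (Nat.Prime 2) := ⟨Nat.prime_two⟩
  have h2 : 2 ∈ spec G :=
    prime_mem_spec (Nat.mem_primeFactors.2 ⟨Nat.prime_two, two_dvd_card hG, Nat.card_pos.ne'⟩)
  have hdvd : ∀ {k : ℕ}, k ∈ spec G → k ∣ Nat.card G := fun hk => by
    obtain ⟨x, rfl⟩ := mem_spec.1 hk
    exact orderOf_dvd_natCard x
  have h3 : 3 ∈ spec G :=
    prime_mem_spec (Nat.mem_primeFactors.2 ⟨Nat.prime_three, hc3.trans (hdvd hc), Nat.card_pos.ne'⟩)
  have hspec : ({1, 2, 3, r, c} : Finset ℕ) = spec G := by
    refine Finset.eq_of_subset_of_card_le ?_ ((spec_card_le h5).trans (le_of_eq ?_))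
    · intro k hk
      simp only [Finset.mem_insert, Finset.mem_singleton] at hk
      rcases hk with rfl | rfl | rfl | rfl | rfl
      exacts [one_mem_spec, h2, h3, hr, hc]
    · rw [Finset.card_insert_of_notMem, Finset.card_insert_of_notMem, Finset.card_insert_of_notMem,
        Finset.card_pair hcr.symm] <;> simp <;> omega
  -- so the composite one is a power of three
  have hpp : c = 3 ^ c.primeFactorsList.length := by
    refine Nat.eq_prime_pow_of_unique_prime_dvd (by omega) fun {d} hd hdc => ?_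
    have hd' : d ∈ spec G :=
      prime_mem_spec (Nat.mem_primeFactors.2 ⟨hd, hdc.trans (hdvd hc), Nat.card_pos.ne'⟩)
    rw [← hspec] at hd'
    simp only [Finset.mem_insert, Finset.mem_singleton] at hd'
    rcases hd' with rfl | rfl | rfl | rfl | rfl
    · exact absurd hd Nat.not_prime_one
    · exact absurd hdc hcodd
    · rfl
    · exfalso
      have h2' : d ∣ 2 := by
        rcases hco with h | h
        · have := Nat.dvd_sub (dvd_refl d) hdc
          rwa [show d - c = 2 by omega] at this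
        · have := Nat.dvd_sub hdc (dvd_refl d)
          rwa [show c - d = 2 by omega] at this
      have := Nat.le_of_dvd two_pos h2'
      omega
    · exact absurd hd hcp
  rcases hlt with h | h
  · rcases two_pow_sub_one (n := n) (k := c.primeFactorsList.length) (by omega) with rfl | rfl <;> omega
  · rcases two_pow_add_one (n := n) (k := c.primeFactorsList.length) (by omega) with rfl | rfl <;> omega

/-- If every element commuting with an involution squares to one, the group is of the list. -/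
theorem concl_of_elementary [IsSimpleGroup G] (hG : ¬ IsMulCommutative G) (h5 : Few G)
    (hA : ∀ t x : G, orderOf t = 2 → Commute t x → x * x = 1) : Concl G := by
  classical
  haveI : Fact (Nat.Prime 2) := ⟨Nat.prime_two⟩
  obtain ⟨T⟩ : Nonempty (Sylow 2 G) := Sylow.nonempty
  have hT0 : (T : Subgroup G) ≠ ⊥ := T.ne_bot_of_dvd_card (two_dvd_card hG)
  have hnn : ¬ (T : Subgroup G).Normal := by
    intro hn
    rcases hn.eq_bot_or_eq_top with h | h
    · exact hT0 h
    · obtain ⟨k, hk⟩ := T.isPGroup'.exists_card_eq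
      rw [h, Subgroup.card_top] at hk
      exact not_isSolvable hG (Cfsg.Agent.S0144.result 2 2 k 0 Nat.prime_two Nat.prime_two (by simp [hk]))
  have hmin : (Nat.card G).minFac = 2 := (Nat.minFac_eq_two_iff _).2 (two_dvd_card hG)
  have hnc : ¬ IsCyclic (T : Subgroup G) := by
    intro hcyc
    have hPle := IsCyclic.normalizer_le_centralizer hmin hcyc
    have hcompl := MonoidHom.ker_transferSylow_isComplement' T hPle
    rcases (MonoidHom.normal_ker (MonoidHom.transferSylow T hPle)).eq_bot_or_eq_top with h | h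
    · rw [h] at hcompl
      exact hnn (by rw [Subgroup.isComplement'_bot_left.1 hcompl]; infer_instance)
    · rw [h] at hcompl
      exact hT0 (Subgroup.isComplement'_top_left.1 hcompl)
  have hC : ∀ t : G, orderOf t = 2 → IsMulCommutative (centralizer ({t} : Set G)) ∧
      ∀ c ∈ centralizer ({t} : Set G), c ^ 2 = 1 := by
    intro t ht
    have hsq : ∀ c ∈ centralizer ({t} : Set G), c * c = 1 := fun c hc =>
      hA t c ht (Subgroup.mem_centralizer_singleton_iff.1 hc).symm
    refine ⟨⟨⟨fun a b => Subtype.ext ?_⟩⟩, fun c hc => by rw [pow_two]; exact hsq c hc⟩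
    have e : ∀ c ∈ centralizer ({t} : Set G), c⁻¹ = c := fun c hc =>
      inv_eq_of_mul_eq_one_right (hsq c hc)
    have := e _ (a * b).2
    rw [Subgroup.coe_mul, mul_inv_rev, e _ a.2, e _ b.2] at this
    exact this.symm
  obtain ⟨F, hF, hFin, hcardF, ⟨φ⟩⟩ := Cfsg.Agent.S1230.result T hnc hnn hC
  obtain ⟨n, hn⟩ := T.isPGroup'.exists_card_eq
  have hFn : Fintype.card F = 2 ^ n := hcardF.trans hn
  have hlarge := CfsgLib.Perm.ZGroup.three_lt_of_simple_psl φ
  have hn2 : 2 ≤ n := by
    by_contra h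
    interval_cases n <;> norm_num at hFn <;> omega
  haveI : CharP F 2 := charP_of_card_eq_prime_pow (f := n) hFn
  have hg1 : Nat.gcd 2 (Fintype.card F - 1) = 1 := by
    have : 2 ∣ Fintype.card F := hFn ▸ dvd_pow_self 2 (by omega)
    refine Nat.coprime_two_left.2 ⟨(Fintype.card F - 2) / 2, by omega⟩
  rcases Nat.lt_or_ge n 4 with hn4 | hn4
  · interval_cases n
    · refine Or.inl (Cfsg.Agent.S0494.result ?_)
      have hc := CfsgLib.Perm.ZGroup.card_psl2_gcd (F := F)
      rw [← Nat.card_congr φ.toEquiv, hFn] at hc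
      norm_num at hc
      exact hc
    · exact Or.inr (Or.inr ⟨F, hF, hFin, Or.inr (by rw [hFn]; norm_num), ⟨φ⟩⟩)
  exfalso
  have hmem : ∀ m : ℕ, m = Fintype.card F - 1 ∨ m = Fintype.card F + 1 → m ∈ spec G := fun m hm => by
    obtain ⟨x, hx⟩ := CfsgLib.LocalEven.Spectrum.psl_exists (F := F) 2 m (by
      rw [hg1, Nat.div_one, Nat.div_one]
      rcases hm with rfl | rfl <;> simp)
    exact mem_spec.2 ⟨φ.symm x, by rw [MulEquiv.orderOf_eq, hx]⟩
  rw [hFn] at hmem
  exact no_two_tori hG h5 hn4 (hmem _ (Or.inl rfl)) (hmem _ (Or.inr rfl))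

end CfsgLib.Recognition.FiveOrbits
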