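import Cfsg.Agent.Lib.Recognition.FiveOrbits.Basic
import Cfsg.Agent.Lib.Recognition.PrimePowerSimple.Structure

/-!
# At most five automorphism orbits with an element of order four
-/

set_option autoImplicit false
set_option linter.style.haveILetI false

namespace CfsgLib.Recognition.FiveOrbits

open CfsgLib.Recognition.PrimePowerSimple (CITList PPList)

variable {G : Type*} [Group G] [Finite G]

/-- With an element of order four, all other nontrivial orders are prime. -/
theorem isPrimePow_orders [IsSimpleGroup G] (hG : ¬ IsMulCommutative G) (h5 : Few G) (h4 : 4 ∈ spec G)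
    (g : G) (hg : g ≠ 1) : IsPrimePow (orderOf g) := by
  by_cases hp : (orderOf g).Prime
  · exact hp.isPrimePow
  · rw [composite_unique hG h5 (orderOf_mem_spec g) h4 (fun h => hg (orderOf_eq_one_iff.1 h)) (by norm_num) hp
      (by norm_num)]
    exact (isPrimePow_nat_iff _).2 ⟨2, 2, Nat.prime_two, two_pos, by norm_num⟩

/-- With an element of order four at most three primes divide the order. -/
theorem card_primeFactors_le (h5 : Few G) (h4 : 4 ∈ spec G) : (Nat.card G).primeFactors.card ≤ 3 := by
  classical
  have hsub : insert 1 (insert 4 (Nat.card G).primeFactors) ⊆ spec G :=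
    Finset.insert_subset_iff.2 ⟨one_mem_spec, Finset.insert_subset_iff.2 ⟨h4, fun _ => prime_mem_spec⟩⟩
  have h := (Finset.card_le_card hsub).trans (spec_card_le h5)
  have e4 : (4 : ℕ) ∉ (Nat.card G).primeFactors := fun h => by
    have := Nat.prime_of_mem_primeFactors h
    norm_num at this
  have e1 : (1 : ℕ) ∉ insert 4 (Nat.card G).primeFactors := fun h => by
    rcases Finset.mem_insert.1 h with h | h
    · norm_num at h
    · exact Nat.not_prime_one (Nat.prime_of_mem_primeFactors h)
  rw [Finset.card_insert_of_notMem e1, Finset.card_insert_of_notMem e4] at h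
  omega

theorem four_le_card_primeFactors {n : ℕ} (hn : n ≠ 0) (S : Finset ℕ) (hS : S.card = 4)
    (h : ∀ p ∈ S, p.Prime ∧ p ∣ n) : 4 ≤ n.primeFactors.card := by
  rw [← hS]
  exact Finset.card_le_card fun p hp => Nat.mem_primeFactors.2 ⟨(h p hp).1, (h p hp).2, hn⟩

/-- With an element of order four the group is of the list, given the classification of the simple
groups with 2-groups as involution centralisers. -/
theorem concl_of_four [IsSimpleGroup G] (hG : ¬ IsMulCommutative G) (h5 : Few G) (h4 : 4 ∈ spec G)
    (hlist : CITList G) : Concl G := by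
  classical
  have hP := isPrimePow_orders hG h5 h4
  have h3 := card_primeFactors_le h5 h4
  have hcl := CfsgLib.Recognition.PrimePowerSimple.classify hP hlist
  rcases hcl with he | ⟨F, _, _, hF, ⟨φ⟩⟩ | ⟨F, _, _, hF, ⟨φ⟩⟩ | ⟨F, _, _, h⟩
  · exact Or.inr (Or.inl he)
  · simp only [Finset.mem_insert, Finset.mem_singleton] at hF
    rcases hF with hF | hF | hF | hF
    · refine Or.inl (Cfsg.Agent.S0494.result ?_)
      have hc := CfsgLib.Perm.ZGroup.card_psl2_gcd (F := F)
      rw [← Nat.card_congr φ.toEquiv, hF] at hc
      norm_num at hc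
      exact hc
    · exact Or.inr (Or.inr ⟨F, inferInstance, inferInstance, Or.inl hF, ⟨φ⟩⟩)
    · exact Or.inr (Or.inr ⟨F, inferInstance, inferInstance, Or.inr hF, ⟨φ⟩⟩)
    · exfalso
      haveI : Fact (Nat.Prime 17) := ⟨by norm_num⟩
      haveI : CharP F 17 := charP_of_card_eq_prime_pow (f := 1) (by rw [hF]; norm_num)
      obtain ⟨x, hx⟩ := CfsgLib.LocalEven.Spectrum.psl_exists (F := F) 17 8 (by rw [hF]; norm_num)
      have h8 : 8 ∈ spec G := mem_spec.2 ⟨φ.symm x, by rw [MulEquiv.orderOf_eq, hx]⟩
      exact absurd (composite_unique hG h5 h8 h4 (by norm_num) (by norm_num) (by norm_num) (by norm_num))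
        (by norm_num)
  all_goals exfalso
  all_goals have hgt : 4 ≤ (Nat.card G).primeFactors.card := ?_
  all_goals first | omega | skip
  · rw [Nat.card_congr φ.toEquiv, CfsgLib.SmallGroups.M21.card_psl F hF]
    exact four_le_card_primeFactors (by norm_num) {2, 3, 5, 7} (by decide) fun p hp => by
      simp only [Finset.mem_insert, Finset.mem_singleton] at hp
      rcases hp with rfl | rfl | rfl | rfl <;> norm_num
  · rcases h with ⟨hF, ⟨φ⟩⟩ | ⟨hF, ⟨φ⟩⟩
    · have hp : CfsgLib.KnownB.Suzuki.Params F 4 :=
        CfsgLib.KnownB.Suzuki.params_of_card (m := 1) le_rfl (by rw [hF]; norm_num)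
      rw [Nat.card_congr φ.toEquiv, CfsgLib.KnownB.Suzuki.card_eq hp, hF]
      exact four_le_card_primeFactors (by norm_num) {2, 5, 7, 13} (by decide) fun p hp => by
        simp only [Finset.mem_insert, Finset.mem_singleton] at hp
        rcases hp with rfl | rfl | rfl | rfl <;> norm_num
    · have hp : CfsgLib.KnownB.Suzuki.Params F 8 :=
        CfsgLib.KnownB.Suzuki.params_of_card (m := 2) one_le_two (by rw [hF]; norm_num)
      rw [Nat.card_congr φ.toEquiv, CfsgLib.KnownB.Suzuki.card_eq hp, hF]
      exact four_le_card_primeFactors (by norm_num) {2, 5, 31, 41} (by decide) fun p hp => by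
        simp only [Finset.mem_insert, Finset.mem_singleton] at hp
        rcases hp with rfl | rfl | rfl | rfl <;> norm_num

end CfsgLib.Recognition.FiveOrbits
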